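import Mathlib
import Groth.Agent.PushLib.SpecPush

/-!
# Pinching of affine schemes over a base
-/

set_option autoImplicit false

open CategoryTheory CategoryTheory.Limits AlgebraicGeometry

universe u

namespace Groth.Agent.PinchActLib

theorem exists_affine_pushout {S : Scheme.{u}} {Y X₁ X₂ : Over S} (θ₁ : Y ⟶ X₁) (θ₂ : Y ⟶ X₂)
    [IsAffine Y.left] [IsAffine X₁.left] [IsAffine X₂.left] [IsClosedImmersion θ₂.left] :
    ∃ (P : Over S) (φ₁ : X₁ ⟶ P) (φ₂ : X₂ ⟶ P), IsAffine P.left ∧ IsPushout θ₁ θ₂ φ₁ φ₂ := by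
  let R : Subring (Γ(X₁.left, ⊤) × Γ(X₂.left, ⊤)) :=
    RingHom.eqLocus (θ₁.left.appTop.hom.comp (RingHom.fst _ _)) (θ₂.left.appTop.hom.comp (RingHom.snd _ _))
  let F : PushLib.FibSq R Γ(X₁.left, ⊤) Γ(X₂.left, ⊤) Γ(Y.left, ⊤) :=
    { u := (RingHom.fst _ _).comp R.subtype
      v := (RingHom.snd _ _).comp R.subtype
      q := θ₁.left.appTop.hom
      p := θ₂.left.appTop.hom
      w := fun x => x.2
      surj := θ₂.left.app_surjective ⊤ (isAffineOpen_top _)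
      inj := fun x y h1 h2 => Subtype.ext (Prod.ext h1 h2)
      lift := fun b a h => ⟨⟨(b, a), h⟩, rfl, rfl⟩ }
  have h : IsPushout θ₁.left θ₂.left (X₁.left.isoSpec.hom ≫ PushLib.specMap F.u) (X₂.left.isoSpec.hom ≫ PushLib.specMap F.v) :=
    IsPushout.of_iso F.isPushout.flip Y.left.isoSpec.symm X₁.left.isoSpec.symm X₂.left.isoSpec.symm (Iso.refl _)
      ((Scheme.isoSpec_inv_naturality θ₁.left)) ((Scheme.isoSpec_inv_naturality θ₂.left))
      (by simp) (by simp)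
  have w : θ₁.left ≫ X₁.hom = θ₂.left ≫ X₂.hom := by rw [Over.w θ₁, Over.w θ₂]
  let P : Over S := Over.mk (h.desc X₁.hom X₂.hom w)
  let φ₁ : X₁ ⟶ P := Over.homMk _ (h.inl_desc _ _ w)
  let φ₂ : X₂ ⟶ P := Over.homMk _ (h.inr_desc _ _ w)
  exact ⟨P, φ₁, φ₂, inferInstanceAs (IsAffine (Spec (.of R))),
    IsPushout.of_map (Over.forget S) (by ext : 1; exact h.w) h⟩

end Groth.Agent.PinchActLib
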