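import Mathlib
import Groth.Agent.S16045

/-!
# `A ⊗ -` preserves pinchings along closed subschemes for flat `A`
-/

set_option autoImplicit false

open CategoryTheory CategoryTheory.Limits MonoidalCategory CartesianMonoidalCategory AlgebraicGeometry

universe u

namespace Groth.Agent.PinchActLib

variable {S : Scheme.{u}}

/-- `X ⊗ A` is `Over.map` of `Over.pullback` along `A` -/
noncomputable def mapPullbackIso (A X : Over S) :
    (Over.map A.hom).obj ((Over.pullback A.hom).obj X) ≅ A ⊗ X :=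
  Over.isoMk (pullbackSymmetry X.hom A.hom) (by simp [Over.tensorObj_hom])

theorem isClosedImmersion_whiskerLeft (A : Over S) {X Y : Over S} (θ : X ⟶ Y) [IsClosedImmersion θ.left] :
    IsClosedImmersion (A ◁ θ).left := by
  have s : IsPullback (snd A X).left (fst A X).left X.hom A.hom := (IsPullback.of_hasPullback A.hom X.hom).flip
  have t : IsPullback (snd A Y).left (fst A Y).left Y.hom A.hom := (IsPullback.of_hasPullback A.hom Y.hom).flip
  refine MorphismProperty.of_isPullback (P := @IsClosedImmersion)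
    (IsPullback.of_bot (h₁₁ := (snd A X).left) (v₁₁ := (A ◁ θ).left) (v₁₂ := θ.left) ?_ ?_ t) ‹_›
  · rw [Over.w θ, ← Over.comp_left, whiskerLeft_fst]; exact s
  · rw [← Over.comp_left, ← Over.comp_left, whiskerLeft_snd]

theorem isPushout_whiskerLeft (A : Over S) [Flat A.hom] {Y X₁ X₂ X : Over S} {θ₁ : Y ⟶ X₁} {θ₂ : Y ⟶ X₂}
    [IsClosedImmersion θ₁.left] [IsClosedImmersion θ₂.left] {φ₁ : X₁ ⟶ X} {φ₂ : X₂ ⟶ X} (hX : IsPushout θ₁ θ₂ φ₁ φ₂) :
    IsPushout (A ◁ θ₁) (A ◁ θ₂) (A ◁ φ₁) (A ◁ φ₂) := by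
  haveI := (Over.mapPullbackAdj A.hom).leftAdjoint_preservesColimits
  refine IsPushout.of_iso ((S16045.result A.hom θ₁ θ₂ φ₁ φ₂ hX).map (Over.map A.hom))
    (mapPullbackIso A Y) (mapPullbackIso A X₁) (mapPullbackIso A X₂) (mapPullbackIso A X) ?_ ?_ ?_ ?_ <;>
  · ext <;> simp [mapPullbackIso] <;> first | exact pullback.lift_fst _ _ _ | exact pullback.lift_snd _ _ _

end Groth.Agent.PinchActLib
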