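import Groth.Agent.PinchActLib.Cat
import Groth.Agent.PinchActLib.Over
import Groth.Agent.PinchActLib.Affine
import Groth.Agent.MagnetLib.Dominant
import Groth.Prelude.Def_Magnet4
import Groth.Prelude.Def_MoreMor

/-!
# The equivariant pinching of `A(F)_T` and `A(N)_T ×_T T̄`
-/

set_option autoImplicit false

open CategoryTheory CategoryTheory.Limits MonoidalCategory CartesianMonoidalCategory AlgebraicGeometry
open Magnet

universe u

namespace Groth.Agent.PinchActLib

theorem flat_amonS (S : Scheme.{u}) (M : Type) [AddCommMonoid M] : Flat (AMonS S M).hom := by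
  have h : Flat (AMon (ULift.{u} ℤ) M).hom := by
    show Flat (Spec.map _)
    rw [HasRingHomProperty.Spec_iff (P := @Flat)]
    exact RingHom.flat_algebraMap_iff.2 inferInstance
  exact MorphismProperty.pullback_snd _ _ h

theorem isAffine_amonS (T : Scheme.{u}) [IsAffine T] (N : Type) [AddCommMonoid N] : IsAffine (AMonS T N).left := by
  haveI : IsAffine (AMon (ULift.{u} ℤ) N).left := inferInstanceAs (IsAffine (Spec _))
  haveI : IsAffineHom (AMonS T N).hom :=
    MorphismProperty.pullback_snd _ _ (isAffineHom_of_isAffine (AMon (ULift.{u} ℤ) N).hom)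
  exact isAffine_of_isAffineHom (AMonS T N).hom

theorem exists_pinch (T : Scheme.{u}) [IsAffine T] (M : Type) [AddCommGroup M]
    {N F : AddSubmonoid M} (hF : IsFace N F) (Tb : Over T) [IsClosedImmersion Tb.hom] :
    ∃ (P : Over T) (ν₁ : AMonS T F ⟶ P) (ν₂ : AMonS T N ⊗ Tb ⟶ P)
      (hP : IsPushout (fst (AMonS T F) Tb) (AMonS.faceMap T hF ▷ Tb) ν₁ ν₂)
      (aP : MonAct (AMonS T M) P),
      IsAffine P.left ∧ MonAct.IsEquivariant (subAct T M F) aP ν₁ ∧
      MonAct.IsEquivariant ((subAct T M N).prod (MonAct.trivial (AMonS T M) Tb)) aP ν₂ ∧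
      ∀ (X : Over T) (aX : MonAct (AMonS T M) X) (f₁ : AMonS T F ⟶ X)
        (f₂ : AMonS T N ⊗ Tb ⟶ X)
        (w : fst (AMonS T F) Tb ≫ f₁ = (AMonS.faceMap T hF ▷ Tb) ≫ f₂),
        MonAct.IsEquivariant (subAct T M F) aX f₁ →
        MonAct.IsEquivariant ((subAct T M N).prod (MonAct.trivial (AMonS T M) Tb)) aX f₂ →
        MonAct.IsEquivariant aP aX (hP.desc f₁ f₂ w) := by
  haveI : IsAffine Tb.left := isAffine_of_isAffineHom Tb.hom
  haveI := isAffine_amonS T F
  haveI := MagnetLib.isAffine_amonS_tensor (S := T) F Tb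
  haveI := MagnetLib.isAffine_amonS_tensor (S := T) N Tb
  haveI : IsClosedImmersion (fst (AMonS T F) Tb).left :=
    MorphismProperty.pullback_fst (P := @IsClosedImmersion) _ _ ‹IsClosedImmersion Tb.hom›
  haveI : IsClosedImmersion (AMonS.faceMap T hF ▷ Tb).left := by
    haveI : IsClosedImmersion
        ((AMonS.faceMap T hF ▷ Tb).left ≫ (AMonS.map T (AddSubmonoid.inclusion hF.le) ▷ Tb).left) := by
      rw [← Over.comp_left, ← comp_whiskerRight, AMonS.faceMap_comp_map, id_whiskerRight, Over.id_left]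
      infer_instance
    exact IsClosedImmersion.of_comp _ (AMonS.map T (AddSubmonoid.inclusion hF.le) ▷ Tb).left
  obtain ⟨P, ν₁, ν₂, hA, hP⟩ := exists_affine_pushout (fst (AMonS T F) Tb) (AMonS.faceMap T hF ▷ Tb)
  have := flat_amonS T M
  have := isClosedImmersion_whiskerLeft (AMonS T M) (fst (AMonS T F) Tb)
  have := isClosedImmersion_whiskerLeft (AMonS T M) (AMonS.faceMap T hF ▷ Tb)
  have h₁ := isPushout_whiskerLeft (AMonS T M) hP
  have h₂ := isPushout_whiskerLeft (AMonS T M) h₁
  obtain ⟨aP, e₁, e₂, e₃⟩ := exists_act ((subAct T M F).prod (MonAct.trivial (AMonS T M) Tb)) (subAct T M F)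
    ((subAct T M N).prod (MonAct.trivial (AMonS T M) Tb)) hP
    ((MonAct.isEquivariant_iff _ _ _).2 fun W g z => by
      rw [← lift_comp_fst_snd z, MonAct.lift_prod_act_assoc, lift_fst, lift_fst])
    ((MonAct.isEquivariant_iff _ _ _).2 fun W g z => by
      rw [← lift_comp_fst_snd z, MonAct.lift_prod_act_assoc, lift_whiskerRight, lift_whiskerRight,
        MonAct.lift_prod_act, Category.assoc]
      congr 1
      exact (MonAct.isEquivariant_iff _ _ _).1 (isEquivariant_faceMapS T hF) W g _)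
    h₁ h₂
  exact ⟨P, ν₁, ν₂, hP, aP, hA, e₁, e₂, e₃⟩

end Groth.Agent.PinchActLib
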