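import Groth.Prelude.Def_Magnet
import Mathlib.CategoryTheory.Limits.Shapes.Pullback.IsPullback.Basic

/-!
# Actions descend along pushouts preserved by `A ⊗ -`
-/

set_option autoImplicit false

open CategoryTheory CategoryTheory.Limits MonoidalCategory CartesianMonoidalCategory MonObj Magnet

universe v₁ u₁

namespace Groth.Agent.PinchActLib

variable {C : Type u₁} [Category.{v₁} C] [CartesianMonoidalCategory C] {A Y X₁ X₂ P : C} [MonObj A]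
  (aY : MonAct A Y) (a₁ : MonAct A X₁) (a₂ : MonAct A X₂)

theorem exists_act {f : Y ⟶ X₁} {g : Y ⟶ X₂} {i₁ : X₁ ⟶ P} {i₂ : X₂ ⟶ P} (hP : IsPushout f g i₁ i₂)
    (hf : MonAct.IsEquivariant aY a₁ f) (hg : MonAct.IsEquivariant aY a₂ g)
    (hA : IsPushout (A ◁ f) (A ◁ g) (A ◁ i₁) (A ◁ i₂))
    (hAA : IsPushout (A ◁ A ◁ f) (A ◁ A ◁ g) (A ◁ A ◁ i₁) (A ◁ A ◁ i₂)) :
    ∃ aP : MonAct A P, MonAct.IsEquivariant a₁ aP i₁ ∧ MonAct.IsEquivariant a₂ aP i₂ ∧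
      ∀ (X : C) (aX : MonAct A X) (f₁ : X₁ ⟶ X) (f₂ : X₂ ⟶ X) (w : f ≫ f₁ = g ≫ f₂),
        MonAct.IsEquivariant a₁ aX f₁ → MonAct.IsEquivariant a₂ aX f₂ →
          MonAct.IsEquivariant aP aX (hP.desc f₁ f₂ w) := by
  unfold MonAct.IsEquivariant at hf hg ⊢
  have w : (A ◁ f) ≫ a₁.act ≫ i₁ = (A ◁ g) ≫ a₂.act ≫ i₂ := by
    rw [← reassoc_of% hf, hP.w, reassoc_of% hg]
  let act := hA.desc (a₁.act ≫ i₁) (a₂.act ≫ i₂) w
  have h₁ : (A ◁ i₁) ≫ act = a₁.act ≫ i₁ := hA.inl_desc _ _ w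
  have h₂ : (A ◁ i₂) ≫ act = a₂.act ≫ i₂ := hA.inr_desc _ _ w
  have one : ∀ {X : C} (a : MonAct A X) (i : X ⟶ P), (A ◁ i) ≫ act = a.act ≫ i →
      i ≫ (λ_ P).inv ≫ (η[A] ▷ P) ≫ act = i := fun a i h => by
    rw [leftUnitor_inv_naturality_assoc, whisker_exchange_assoc, h, reassoc_of% a.one_act, Iso.inv_hom_id_assoc]
  have mul : ∀ {X : C} (a : MonAct A X) (i : X ⟶ P), (A ◁ i) ≫ act = a.act ≫ i →
      (A ◁ A ◁ i) ≫ (α_ A A P).inv ≫ (μ[A] ▷ P) ≫ act = (A ◁ A ◁ i) ≫ (A ◁ act) ≫ act := fun a i h => by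
    rw [associator_inv_naturality_right_assoc, whisker_exchange_assoc, h, reassoc_of% a.mul_act,
      Iso.inv_hom_id_assoc, ← whiskerLeft_comp_assoc, h, MonoidalCategory.whiskerLeft_comp, Category.assoc, h]
  refine ⟨⟨act, ?_, ?_⟩, h₁.symm, h₂.symm, fun X aX f₁ f₂ w' e₁ e₂ => ?_⟩
  · rw [← Iso.inv_comp_eq_id]
    refine hP.hom_ext ?_ ?_
    · rw [Category.comp_id]; exact one a₁ i₁ h₁
    · rw [Category.comp_id]; exact one a₂ i₂ h₂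
  · rw [← Iso.inv_comp_eq]
    exact hAA.hom_ext (mul a₁ i₁ h₁) (mul a₂ i₂ h₂)
  · show act ≫ _ = _
    refine hA.hom_ext ?_ ?_
    · rw [reassoc_of% h₁, hP.inl_desc, e₁, ← whiskerLeft_comp_assoc, hP.inl_desc]
    · rw [reassoc_of% h₂, hP.inr_desc, e₂, ← whiskerLeft_comp_assoc, hP.inr_desc]

end Groth.Agent.PinchActLib
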